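import Cfsg.Prelude.Def_SporadicCombinatorics

/-!
The ternary code of length 12 on the array of four columns: basis, weights, hexads.
-/

namespace Cfsg.Lib.Ternary

open Cfsg Finset

/-- The position of a cell. -/
def pos (p : ArrayPt) : ℕ := 3 * p.1.val + p.2.val

/-- The cell at a position. -/
def cell (k : ℕ) : ArrayPt := (⟨k / 3 % 4, Nat.mod_lt _ (by norm_num)⟩, ((k % 3 : ℕ) : ZMod 3))

/-- The rows of a systematic basis. -/
def rows : List (List ℕ) :=
  [[1, 0, 0, 0, 0, 1, 0, 0, 1, 1, 1, 2], [0, 1, 0, 0, 0, 1, 0, 2, 2, 2, 0, 2], [0, 0, 1, 0, 0, 1, 0, 1, 0, 2, 1, 1],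
    [0, 0, 0, 1, 0, 2, 0, 2, 1, 2, 1, 0], [0, 0, 0, 0, 1, 2, 0, 1, 2, 0, 1, 2], [0, 0, 0, 0, 0, 0, 1, 1, 1, 2, 2, 2]]

/-- A row as a word. -/
def row (k : ℕ) (p : ArrayPt) : ZMod 3 := (((rows.getD k []).getD (pos p) 0 : ℕ) : ZMod 3)

/-- The positions read by the encoding. -/
def info : List ℕ := [0, 1, 2, 3, 4, 6]

/-- The other positions. -/
def rest : List ℕ := [5, 7, 8, 9, 10, 11]

/-- The word with given information digits. -/
def enc (a : Fin 6 → ZMod 3) : ArrayPt → ZMod 3 := fun p => ∑ k : Fin 6, a k * row k p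

/-- The information digits of a word. -/
def dec (x : ArrayPt → ZMod 3) : Fin 6 → ZMod 3 := fun k => x (cell (info.getD k 0))

/-- A word vanishing on the information positions. -/
def restWord (b : Fin 6 → ZMod 3) : ArrayPt → ZMod 3 := fun p =>
  ∑ k : Fin 6, if pos p = rest.getD k 0 then b k else 0

/-- The defining conditions, decidably. -/
def good (x : ArrayPt → ZMod 3) : Prop :=
  (∀ i : Fin 4, ∑ r : ZMod 3, x (i, r) = ∑ r : ZMod 3, x (0, r)) ∧
    ∀ a b : ZMod 3, x (0, b) + x (1, a) + x (2, a + b) + x (3, a + 2 * b) = -∑ r : ZMod 3, x (0, r)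

instance (x : ArrayPt → ZMod 3) : Decidable (good x) := by unfold good; infer_instance

theorem mem_tetracode {t : Fin 4 → ZMod 3} :
    t ∈ tetracode ↔ ∃ a b : ZMod 3, t = ![b, a, a + b, a + 2 * b] := by
  rw [tetracode, Submodule.mem_span_pair]
  constructor
  · rintro ⟨a, b, rfl⟩
    exact ⟨a, b, by ext i; fin_cases i <;> simp <;> ring⟩
  · rintro ⟨a, b, rfl⟩
    exact ⟨a, b, by ext i; fin_cases i <;> simp <;> ring⟩

theorem mem_iff_good {x : ArrayPt → ZMod 3} : x ∈ ternaryGolayCode ↔ good x := by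
  show IsTernaryGolayWord x ↔ good x
  have hsum : ∀ a b : ZMod 3, ∑ i : Fin 4, x (i, ![b, a, a + b, a + 2 * b] i)
      = x (0, b) + x (1, a) + x (2, a + b) + x (3, a + 2 * b) := fun a b => by rw [Fin.sum_univ_four]; simp
  constructor
  · rintro ⟨s, h1, h2⟩
    refine ⟨fun i => (h1 i).trans (h1 0).symm, fun a b => ?_⟩
    rw [← hsum, h2 _ (mem_tetracode.mpr ⟨a, b, rfl⟩), h1 0, neg_neg]
  · rintro ⟨h1, h2⟩
    refine ⟨-∑ r : ZMod 3, x (0, r), fun i => by rw [neg_neg]; exact h1 i, fun t ht => ?_⟩
    obtain ⟨a, b, rfl⟩ := mem_tetracode.mp ht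
    rw [hsum]; exact h2 a b

/-- A vector of digits from a number. -/
def digits (n : ℕ) : Fin 6 → ZMod 3 := fun k => ((n / 3 ^ (k : ℕ) % 3 : ℕ) : ZMod 3)

theorem exists_digits (a : Fin 6 → ZMod 3) : ∃ n < 729, digits n = a := by
  refine ⟨∑ k : Fin 6, (a k).val * 3 ^ (k : ℕ), ?_, funext fun k => ?_⟩
  · have hv := fun k : Fin 6 => (a k).val_lt
    rw [Fin.sum_univ_six]
    have := hv 0; have := hv 1; have := hv 2; have := hv 3; have := hv 4; have := hv 5
    norm_num
    omega
  · show ((_ % 3 : ℕ) : ZMod 3) = a k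
    rw [← ZMod.natCast_zmod_val (a k)]
    congr 1
    have hv := fun k : Fin 6 => (a k).val_lt
    rw [Fin.sum_univ_six]
    have := hv 0; have := hv 1; have := hv 2; have := hv 3; have := hv 4; have := hv 5
    fin_cases k <;> simp only [Fin.reduceFinMk] <;> norm_num <;> omega

theorem rows_good : ∀ k : Fin 6, good (row k) := by decide +kernel

theorem rest_trivial : ∀ n < 729, good (restWord (digits n)) → n = 0 := by decide +kernel

theorem dec_row : ∀ j k : Fin 6, row j (cell (info.getD k 0)) = if j = k then 1 else 0 := by decide +kernel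

theorem cell_facts : ∀ p : ArrayPt, cell (pos p) = p ∧ (pos p ∈ info ∨ pos p ∈ rest) := by decide +kernel

theorem enc_mem (a : Fin 6 → ZMod 3) : enc a ∈ ternaryGolayCode := by
  rw [show enc a = ∑ k : Fin 6, a k • row k by funext p; simp [enc, Finset.sum_apply]]
  exact Submodule.sum_mem _ fun k _ => Submodule.smul_mem _ _ (mem_iff_good.mpr (rows_good k))

theorem dec_enc (a : Fin 6 → ZMod 3) : dec (enc a) = a := by
  funext k
  simp only [dec, enc, dec_row, mul_ite, mul_one, mul_zero, Finset.sum_ite_eq', Finset.mem_univ, if_true]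

theorem eq_enc {x : ArrayPt → ZMod 3} (hx : x ∈ ternaryGolayCode) : x = enc (dec x) := by
  rw [← sub_eq_zero]
  set y := x - enc (dec x) with hy
  have hym : y ∈ ternaryGolayCode := sub_mem hx (enc_mem _)
  have hy0 : ∀ k : Fin 6, y (cell (info.getD k 0)) = 0 := fun k => by
    rw [hy, Pi.sub_apply, sub_eq_zero]
    exact (congrFun (dec_enc (dec x)) k).symm
  have hyr : y = restWord (fun k => y (cell (rest.getD k 0))) := by
    funext p
    obtain ⟨hp, hpos⟩ := cell_facts p
    have hinfo : ∀ k : Fin 6, info.getD k 0 ∈ info ∧ rest.getD k 0 ∈ rest ∧ rest.getD k 0 ∉ info := by decide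
    rcases hpos with h | h
    · obtain ⟨k, hk⟩ : ∃ k : Fin 6, info.getD k 0 = pos p := by
        obtain ⟨i, hi, e⟩ := List.getElem_of_mem h
        exact ⟨⟨i, hi⟩, by rw [List.getD_eq_getElem _ _ hi, e]⟩
      rw [← hp, ← hk, hy0 k, restWord, Finset.sum_eq_zero fun j _ => if_neg fun e => (hinfo j).2.2 ?_]
      rw [hk, hp] at e
      rw [← e]; exact h
    · obtain ⟨k, hk⟩ : ∃ k : Fin 6, rest.getD k 0 = pos p := by
        obtain ⟨i, hi, e⟩ := List.getElem_of_mem h
        exact ⟨⟨i, hi⟩, by rw [List.getD_eq_getElem _ _ hi, e]⟩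
      have hinj : ∀ i j : Fin 6, rest.getD i 0 = rest.getD j 0 → i = j := by decide
      rw [restWord, Finset.sum_eq_single k (fun j _ hj => if_neg fun e => hj (hinj _ _ (e.symm.trans hk.symm)))
        (fun h => absurd (Finset.mem_univ k) h), if_pos hk.symm, hk, hp]
  obtain ⟨n, hn, e⟩ := exists_digits (fun k => y (cell (rest.getD k 0)))
  rw [hyr, ← e] at hym
  rw [hyr, ← e, rest_trivial n hn (mem_iff_good.mp hym)]
  funext p
  simp [restWord, digits]

/-- All words, by number. -/
theorem code_eq : (ternaryGolayCode : Set (ArrayPt → ZMod 3)) = (fun n => enc (digits n)) '' {n | n < 729} := by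
  ext x
  constructor
  · intro hx
    obtain ⟨n, hn, e⟩ := exists_digits (dec x)
    exact ⟨n, hn, by show enc (digits n) = x; rw [e, ← eq_enc hx]⟩
  · rintro ⟨n, -, rfl⟩; exact enc_mem _

theorem enc_injOn : Set.InjOn (fun n => enc (digits n)) {n | n < 729} := by
  intro a ha b hb h
  have h' := congrArg dec h
  simp only [dec_enc] at h'
  have e : ∀ k : Fin 6, a / 3 ^ (k : ℕ) % 3 = b / 3 ^ (k : ℕ) % 3 := fun k => by
    have := congrArg ZMod.val (congrFun h' k)
    simpa [digits, ZMod.val_natCast] using this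
  have := e 0; have := e 1; have := e 2; have := e 3; have := e 4; have := e 5
  simp only [Set.mem_setOf_eq] at ha hb
  norm_num at *
  omega

/-- The weight of the word with a given number. -/
def wt (n : ℕ) : ℕ := (ternarySupport (enc (digits n))).card

theorem weights_ok : (∀ n < 729, n = 0 ∨ wt n = 6 ∨ wt n = 9 ∨ wt n = 12) ∧
    ((List.range 729).countP fun n => wt n == 6) = 264 ∧ ((List.range 729).countP fun n => wt n == 9) = 440 ∧
    ((List.range 729).countP fun n => wt n == 12) = 24 := by decide +kernel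

theorem ncard_weight (w : ℕ) : {x : ArrayPt → ZMod 3 | x ∈ ternaryGolayCode ∧ (ternarySupport x).card = w}.ncard
    = (List.range 729).countP fun n => wt n == w := by
  have hset : {x : ArrayPt → ZMod 3 | x ∈ ternaryGolayCode ∧ (ternarySupport x).card = w}
      = (fun n => enc (digits n)) '' {n | n < 729 ∧ wt n = w} := by
    ext x
    constructor
    · rintro ⟨hx, hw⟩
      obtain ⟨n, hn, rfl⟩ := (Set.ext_iff.mp code_eq x).mp hx
      exact ⟨n, ⟨hn, hw⟩, rfl⟩
    · rintro ⟨n, ⟨hn, hw⟩, rfl⟩
      exact ⟨enc_mem _, hw⟩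
  rw [hset, (enc_injOn.mono fun n hn => hn.1).ncard_image, List.countP_eq_length_filter,
    ← List.toFinset_card_of_nodup (List.nodup_range.filter _), ← Set.ncard_coe_finset]
  congr 1
  ext n; simp

theorem s1590 : Nat.card ↥ternaryGolayCode = 729 ∧
    (∀ x ∈ ternaryGolayCode, x ≠ 0 → (ternarySupport x).card = 6 ∨ (ternarySupport x).card = 9 ∨ (ternarySupport x).card = 12) ∧
    {x : ArrayPt → ZMod 3 | x ∈ ternaryGolayCode ∧ (ternarySupport x).card = 6}.ncard = 264 ∧
    {x : ArrayPt → ZMod 3 | x ∈ ternaryGolayCode ∧ (ternarySupport x).card = 9}.ncard = 440 ∧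
    {x : ArrayPt → ZMod 3 | x ∈ ternaryGolayCode ∧ (ternarySupport x).card = 12}.ncard = 24 := by
  obtain ⟨h0, h6, h9, h12⟩ := weights_ok
  refine ⟨?_, fun x hx hne => ?_, by rw [ncard_weight, h6], by rw [ncard_weight, h9], by rw [ncard_weight, h12]⟩
  · rw [← SetLike.coe_sort_coe, Nat.card_coe_set_eq, code_eq, enc_injOn.ncard_image,
      show {n | n < 729} = ((Finset.range 729 : Finset ℕ) : Set ℕ) by ext; simp, Set.ncard_coe_finset, Finset.card_range]
  · obtain ⟨n, hn, rfl⟩ := (Set.ext_iff.mp code_eq x).mp hx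
    refine (h0 n hn).resolve_left fun e => hne ?_
    funext p; simp [e, enc, digits]

theorem rows_orth : ∀ j k : Fin 6, ∑ p : ArrayPt, row j p * row k p = 0 := by decide +kernel

theorem s1591 (x y : ArrayPt → ZMod 3) (hx : x ∈ ternaryGolayCode) (hy : y ∈ ternaryGolayCode) :
    ∑ p, x p * y p = 0 := by
  rw [eq_enc hx, eq_enc hy]
  simp only [enc, Finset.sum_mul_sum]
  rw [Finset.sum_comm]
  refine Finset.sum_eq_zero fun j _ => ?_
  rw [Finset.sum_comm]
  refine Finset.sum_eq_zero fun k _ => ?_
  rw [Finset.sum_congr rfl fun p _ => mul_mul_mul_comm (dec x j) (row j p) (dec y k) (row k p), ← Finset.mul_sum,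
    rows_orth, mul_zero]

/-- The mask of the support of the word with a given number. -/
def suppMask (n : ℕ) : ℕ :=
  ((List.range 12).filter fun k => enc (digits n) (cell k) != 0).foldr (fun k m => 2 ^ k ||| m) 0

/-- The set of a mask. -/
def maskSet (m : ℕ) : Finset ArrayPt := Finset.univ.filter fun p => m.testBit (pos p)

/-- Each hexad as a mask, with the number of one word carrying it. -/
def hexPairs : List (ℕ × ℕ) :=
  [(63, 134), (222, 393), (237, 289), (243, 410), (347, 439), (366, 318), (373, 335), (413, 154), (427, 32), (438, 102), (455, 269), (504, 459), (591, 284), (630, 429), (633, 379), (667, 112), (679, 17), (700, 117), (725, 415), (746, 276), (791, 97), (813, 37), (826, 141), (860, 369), (867, 247), (910, 51), (945, 83), (969, 299), (978, 327), (996, 252), (1117, 479), (1127, 259), (1146, 354), (1175, 95), (1198, 39), (1209, 137), (1227, 301), (1268, 342), (1295, 49), (1331, 85), (1340, 144), (1366, 417), (1385, 272), (1434, 114), (1445, 10), (1484, 279), (1489, 325), (1506,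 249), (1566, 156), (1579, 34), (1589, 100), (1619, 332), (1644, 306), (1677, 47), (1714, 87), (1734, 264), (1752, 432), (1761, 245), (1817, 110), (1830, 12), (1861, 262), (1866, 303), (1904, 405), (1923, 5), (1940, 90), (1960, 27), (2135, 346), (2155, 305), (2172, 441), (2191, 43), (2229, 91), (2234, 138), (2265, 353), (2278, 255), (2334, 120), (2343, 14), (2361, 109), (2381, 307), (2418, 330), (2451, 89), (2476, 45), (2506, 273), (2516, 423), (2529, 244), (2589, 146), (2606, 48), (2611, 86), (2650, 462), (2661, 263), (2710, 105), (2729, 29), (2755, 250), (2764, 315), (2800, 324), (2827, 35), (2868, 99), (2886, 258), (2897, 407), (2920, 270), (2949, 11), (2968, 135), (2978, 3), (3099, 142), (3117, 38), (3126, 96), (3150, 294), (3185, 406), (3228, 126), (3235, 4), (3269, 254), (3282, 411), (3304, 297), (3349, 101), (3370, 33), (3395, 248), (3416, 378), (3428, 261), (3462, 15), (3465, 28), (3504, 81), (3591, 13), (3640, 108), (3657, 271), (3668, 333), (3682, 246), (3722, 30), (3729, 82), (3748, 9),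 (3852, 36), (3858, 84), (3873, 1), (4032, 243)]

/-- The hexads as masks. -/
def hexMasks : List ℕ := hexPairs.map Prod.fst

theorem hex_words : (∀ n < 729, wt n = 6 → suppMask n ∈ hexMasks) ∧
    (∀ e ∈ hexPairs, e.2 < 729 ∧ wt e.2 = 6 ∧ suppMask e.2 = e.1) := by decide +kernel

theorem hex_masks : hexMasks.length = 132 ∧ hexMasks.Pairwise (· < ·) ∧
    (∀ m ∈ hexMasks, m < 4096 ∧ (maskSet m).card = 6) := by decide +kernel

/-- The number of set bits among the first twelve. -/
def bits12 (m : ℕ) : ℕ := (List.range 12).countP fun k => m.testBit k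

theorem hex_unique' : ∀ i < 64, ∀ j < 64, bits12 (64 * i + j) = 5 →
    (hexMasks.countP fun h => h &&& (64 * i + j) == 64 * i + j) = 1 := by decide +kernel

theorem card_maskSet (m : ℕ) : (maskSet m).card = bits12 m := by
  have hbij : ∀ k < 12, pos (cell k) = k := by decide +kernel
  rw [bits12, List.countP_eq_length_filter, ← List.toFinset_card_of_nodup (List.nodup_range.filter _)]
  refine Finset.card_bij (fun p _ => pos p) (fun p hp => ?_) (fun p _ q _ h => ?_) (fun k hk => ?_)
  · simp only [maskSet, Finset.mem_filter, Finset.mem_univ, true_and] at hp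
    have : pos p < 12 := by have := p.1.isLt; have := p.2.val_lt; unfold pos; omega
    simp [List.mem_filter, this, hp]
  · rw [← (cell_facts p).1, h, (cell_facts q).1]
  · simp only [List.mem_toFinset, List.mem_filter, List.mem_range] at hk
    exact ⟨cell k, by simp [maskSet, hbij k hk.1, hk.2], hbij k hk.1⟩

theorem hex_unique (m : ℕ) (hm : m < 4096) (h : (maskSet m).card = 5) :
    (hexMasks.countP fun h => h &&& m == m) = 1 := by
  have := hex_unique' (m / 64) (by omega) (m % 64) (by omega)
  rw [Nat.div_add_mod, ← card_maskSet] at this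
  exact this h

theorem pos_lt (p : ArrayPt) : pos p < 12 := by
  have := p.1.isLt; have := p.2.val_lt; unfold pos; omega

theorem cell_pos_nat : ∀ k < 12, pos (cell k) = k := by decide +kernel

theorem supp_mask (n : ℕ) : ternarySupport (enc (digits n)) = maskSet (suppMask n) := by
  have key : ∀ l : List ℕ, ∀ k, (l.foldr (fun k m => 2 ^ k ||| m) 0).testBit k = true ↔ k ∈ l := by
    intro l k
    induction l with
    | nil => simp
    | cons a l ih => rw [List.foldr_cons, Nat.testBit_or, Bool.or_eq_true, ih, Nat.testBit_two_pow, decide_eq_true_iff,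
        List.mem_cons, eq_comm]
  ext p
  simp only [maskSet, suppMask, ternarySupport, Finset.mem_filter, Finset.mem_univ, true_and, key, List.mem_filter,
    List.mem_range, bne_iff_ne, (cell_facts p).1, pos_lt p]

theorem maskSet_surj (s : Finset ArrayPt) : ∃ m < 4096, maskSet m = s := by
  refine ⟨(s.image pos).sum fun k => 2 ^ k, ?_, ?_⟩
  · refine lt_of_le_of_lt (Finset.sum_le_sum_of_subset (t := Finset.range 12) ?_) (by decide)
    intro k hk
    obtain ⟨p, -, rfl⟩ := Finset.mem_image.mp hk
    exact Finset.mem_range.mpr (pos_lt p)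
  · have hinj : Function.Injective pos := fun p q h => by rw [← (cell_facts p).1, h, (cell_facts q).1]
    ext p
    have hb := Finset.toFinset_bitIndices_sum_two_pow (s.image pos)
    simp only [maskSet, Finset.mem_filter, Finset.mem_univ, true_and]
    rw [← Nat.mem_bitIndices, ← List.mem_toFinset, hb, Finset.mem_image]
    exact ⟨fun ⟨q, hq, e⟩ => hinj e ▸ hq, fun h => ⟨p, h, rfl⟩⟩

theorem maskSet_subset {a b : ℕ} (ha : a < 4096) : maskSet a ⊆ maskSet b ↔ b &&& a = a := by
  constructor
  · intro h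
    refine Nat.eq_of_testBit_eq fun i => ?_
    rw [Nat.testBit_and]
    by_cases hb : a.testBit i = true
    · have hi : i < 12 := by
        by_contra hi
        have hpow : (4096 : ℕ) ≤ 2 ^ i := le_trans (le_of_eq (by norm_num)) (Nat.pow_le_pow_right (by norm_num) (Nat.le_of_not_lt hi))
        rw [Nat.testBit_lt_two_pow (lt_of_lt_of_le ha hpow)] at hb
        exact Bool.false_ne_true hb
      have := @h (cell i) (by simp [maskSet, cell_pos_nat i hi, hb])
      simp only [maskSet, Finset.mem_filter, Finset.mem_univ, true_and, cell_pos_nat i hi] at this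
      rw [this, hb]; rfl
    · simp [Bool.eq_false_iff.mpr hb]
  · intro h p hp
    simp only [maskSet, Finset.mem_filter, Finset.mem_univ, true_and] at hp ⊢
    rw [← h, Nat.testBit_and, Bool.and_eq_true] at hp
    exact hp.1

theorem maskSet_inj {a b : ℕ} (ha : a < 4096) (hb : b < 4096) (h : maskSet a = maskSet b) : a = b := by
  have h1 := (maskSet_subset ha).mp h.le
  have h2 := (maskSet_subset hb).mp h.ge
  rw [Nat.land_comm] at h2
  exact h1.symm.trans h2

theorem hexad_set_eq :
    {h : Finset ArrayPt | ∃ x ∈ ternaryGolayCode, ternarySupport x = h ∧ h.card = 6}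
      = maskSet '' {m | m ∈ hexMasks} := by
  ext s
  constructor
  · rintro ⟨x, hx, rfl, h6⟩
    obtain ⟨n, hn, rfl⟩ := (Set.ext_iff.mp code_eq x).mp hx
    exact ⟨suppMask n, hex_words.1 n hn h6, (supp_mask n).symm⟩
  · rintro ⟨m, hm, rfl⟩
    obtain ⟨e, he, rfl⟩ := List.mem_map.mp hm
    obtain ⟨-, -, hs⟩ := hex_words.2 e he
    exact ⟨_, enc_mem (digits e.2), by rw [supp_mask, hs], (hex_masks.2.2 _ hm).2⟩

theorem s1592 : IsSteinerSystem 5 6 {h : Finset ArrayPt | ∃ x ∈ ternaryGolayCode, ternarySupport x = h ∧ h.card = 6} ∧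
    {h : Finset ArrayPt | ∃ x ∈ ternaryGolayCode, ternarySupport x = h ∧ h.card = 6}.ncard = 132 := by
  rw [hexad_set_eq]
  refine ⟨⟨?_, fun t ht => ?_⟩, ?_⟩
  · rintro _ ⟨m, hm, rfl⟩; exact (hex_masks.2.2 m hm).2
  · obtain ⟨m, hm, rfl⟩ := maskSet_surj t
    have h1 := hex_unique m hm ht
    rw [List.countP_eq_length_filter, List.length_eq_one_iff] at h1
    obtain ⟨h, hh⟩ := h1
    have hmem : ∀ g, g ∈ hexMasks ∧ g &&& m = m ↔ g = h := fun g => by
      rw [← List.mem_singleton (a := g), ← hh, List.mem_filter, beq_iff_eq]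
    obtain ⟨hh1, hh2⟩ := (hmem h).mpr rfl
    refine ⟨maskSet h, ⟨⟨h, hh1, rfl⟩, (maskSet_subset hm).mpr hh2⟩, ?_⟩
    rintro _ ⟨⟨g, hg, rfl⟩, hs⟩
    rw [(hmem g).mp ⟨hg, (maskSet_subset hm).mp hs⟩]
  · have hinj : Set.InjOn maskSet {m | m ∈ hexMasks} := fun a ha b hb =>
      maskSet_inj (hex_masks.2.2 a ha).1 (hex_masks.2.2 b hb).1
    rw [hinj.ncard_image,
      show {m | m ∈ hexMasks} = (hexMasks.toFinset : Set ℕ) by ext; simp, Set.ncard_coe_finset,
      List.toFinset_card_of_nodup (hex_masks.2.1.imp fun h => ne_of_lt h), hex_masks.1]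

theorem s1593 (c : ArrayPt → (ZMod 3)ˣ) (h : ∀ x ∈ ternaryGolayCode, monomialMap 1 c x ∈ ternaryGolayCode) :
    (∀ p, c p = 1) ∨ (∀ p, c p = -1) := by
  have hv : ∀ u : (ZMod 3)ˣ, u = 1 ∨ u = -1 := by decide
  suffices hc : ∀ p q, c p = c q by
    rcases hv (c (0, 0)) with e | e
    · exact Or.inl fun p => (hc p _).trans e
    · exact Or.inr fun p => (hc p _).trans e
  intro p q
  obtain ⟨t, hpq, -, ht⟩ := Finset.exists_subsuperset_card_eq (Finset.subset_univ ({p, q} : Finset ArrayPt))
    (n := 5) (le_trans Finset.card_le_two (by norm_num)) (by decide)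
  obtain ⟨-, ⟨x, hx, rfl, h6⟩, hsub⟩ := (s1592.1.2 t ht).exists
  have hmem : ∀ r ∈ ({p, q} : Finset ArrayPt), x r ≠ 0 := fun r hr => by
    simpa [ternarySupport] using hsub (hpq hr)
  have hy := add_mem hx (h x hx)
  have hyp : ∀ r, (x + monomialMap 1 c x) r = (1 + (c r : ZMod 3)) * x r := fun r => by
    simp only [monomialMap, Pi.add_apply, Equiv.Perm.one_def, Equiv.refl_symm, Equiv.refl_apply]; ring
  have hcase : ∀ r, (x r ≠ 0) → (((x + monomialMap 1 c x) r = 0) ↔ c r = -1) := by
    intro r hr; rw [hyp, mul_eq_zero, or_iff_left hr]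
    rcases hv (c r) with e | e <;> rw [e] <;> decide
  by_cases h0 : x + monomialMap 1 c x = 0
  · have : ∀ r ∈ ({p, q} : Finset ArrayPt), c r = -1 := fun r hr => (hcase r (hmem r hr)).mp (by rw [h0]; rfl)
    rw [this p (by simp), this q (by simp)]
  · have hsup : ternarySupport (x + monomialMap 1 c x) ⊆ ternarySupport x := fun r hr => by
      simp only [ternarySupport, Finset.mem_filter, Finset.mem_univ, true_and, hyp] at hr ⊢
      exact right_ne_zero_of_mul hr
    have heq : ternarySupport (x + monomialMap 1 c x) = ternarySupport x := by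
      refine Finset.eq_of_subset_of_card_le hsup ?_
      rw [h6]
      rcases s1590.2.1 _ hy h0 with e | e | e <;> omega
    have : ∀ r ∈ ({p, q} : Finset ArrayPt), c r = 1 := fun r hr => by
      refine (hv (c r)).resolve_right fun e => ?_
      have : r ∈ ternarySupport (x + monomialMap 1 c x) := heq ▸ by simp [ternarySupport, hmem r hr]
      simp only [ternarySupport, Finset.mem_filter, Finset.mem_univ, true_and] at this
      exact this ((hcase r (hmem r hr)).mpr e)
    rw [this p (by simp), this q (by simp)]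

end Cfsg.Lib.Ternary
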