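import Cfsg.Prelude.Def_SporadicCombinatorics

/-!
The hexacode over a field with four elements, computed on `Fin 4` with explicit tables.
-/

namespace Cfsg.Lib.Hexacode

open Cfsg Finset

/-- Addition table. -/
def add4 (a b : Fin 4) : Fin 4 := ⟨(a.val ^^^ b.val) % 4, Nat.mod_lt _ (by norm_num)⟩

/-- Multiplication table. -/
def mul4 (a b : Fin 4) : Fin 4 :=
  if a = 0 ∨ b = 0 then 0 else ⟨(a.val - 1 + (b.val - 1)) % 3 + 1, by omega⟩

/-- The generators. -/
def gen (k : Fin 3) : Fin 6 → Fin 4 :=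
  ![![2, 3, 3, 2, 3, 2], ![3, 2, 2, 3, 3, 2], ![3, 2, 3, 2, 2, 3]] k

/-- The word with given coefficients. -/
def word (a : Fin 3 → Fin 4) : Fin 6 → Fin 4 := fun i =>
  add4 (add4 (mul4 (a 0) (gen 0 i)) (mul4 (a 1) (gen 1 i))) (mul4 (a 2) (gen 2 i))

/-- The coefficients read from the first three places. -/
def dec (x : Fin 6 → Fin 4) : Fin 3 → Fin 4 := fun k =>
  add4 (add4 (mul4 (x 0) (![2, 3, 0] k)) (mul4 (x 1) (![3, 3, 1] k))) (mul4 (x 2) (![0, 1, 1] k))

/-- Coefficients from a number. -/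
def trip (n : ℕ) : Fin 3 → Fin 4 := fun k => ⟨n / 4 ^ (k : ℕ) % 4, Nat.mod_lt _ (by norm_num)⟩

/-- Diagonal entries from a number. -/
def diag (n : ℕ) : Fin 6 → Fin 4 := fun i => ⟨n / 3 ^ (i : ℕ) % 3 + 1, by omega⟩

/-- A monomial map on digit words. -/
def act (σ : Equiv.Perm (Fin 6)) (c x : Fin 6 → Fin 4) : Fin 6 → Fin 4 := fun i => mul4 (c i) (x (σ.symm i))

/-- Whether a monomial map preserves the code. -/
def good (σ : Equiv.Perm (Fin 6)) (c : Fin 6 → Fin 4) : Prop := ∀ k, word (dec (act σ c (gen k))) = act σ c (gen k)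

instance (σ : Equiv.Perm (Fin 6)) (c : Fin 6 → Fin 4) : Decidable (good σ c) := by unfold good; infer_instance

theorem dec_word : ∀ n < 64, dec (word (trip n)) = trip n := by decide +kernel

theorem trip_injOn : ∀ a < 64, ∀ b < 64, trip a = trip b → a = b := by decide +kernel

theorem exists_trip : ∀ a b c : Fin 4, ∃ n < 64, trip n = ![a, b, c] := by decide +kernel

theorem trip_unit : ∀ k : Fin 3, word (Pi.single k 1) = gen k := by decide +kernel

/-- The weight of a digit word. -/
def wt (n : ℕ) : ℕ := (univ.filter fun i => word (trip n) i ≠ 0).card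

theorem weights_ok : (∀ n < 64, n = 0 ∨ wt n = 4 ∨ wt n = 6) ∧
    ((List.range 64).countP fun n => wt n == 4) = 45 ∧ ((List.range 64).countP fun n => wt n == 6) = 18 := by
  decide +kernel

/-- Certificates: a diagonal for each product of the first two places' swap with another swap. -/
def certs : List ℕ :=
  [0, 0, 567, 405, 63, 45, 0, 0, 405, 567, 45, 63, 567, 405, 0, 0, 366, 723, 405, 567, 0, 0, 723, 366, 63, 45, 366,
    723, 0, 0, 45, 63, 723, 366, 0, 0]

theorem certs_ok : ∀ a b : Fin 6, a ≠ b →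
    good (Equiv.swap 0 1 * Equiv.swap a b) (diag (certs.getD (6 * a.val + b.val) 0)) := by decide +kernel

theorem swap_bad : ∀ n < 729, ¬ good (Equiv.swap 0 1) (diag n) := by decide +kernel

theorem kernel_scalar : ∀ n < 729, good 1 (diag n) → ∀ i, diag n i = diag n 0 := by decide +kernel

variable {F : Type*} [Field F] [Fintype F] [DecidableEq F]

/-- The elements of the field, by digit. -/
def elt (ω : F) : Fin 4 → F := ![0, 1, ω, ω + 1]

/-- A digit word as a word. -/
def lift (ω : F) (x : Fin 6 → Fin 4) : Fin 6 → F := fun i => elt ω (x i)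

section

variable (hF : Fintype.card F = 4) {ω : F} (hω : ω ^ 2 + ω + 1 = 0)

include hF in
theorem two_eq_zero : (2 : F) = 0 := by
  have h : ((Fintype.card F : ℕ) : F) = 0 := Nat.cast_card_eq_zero F
  rw [hF] at h
  exact mul_self_eq_zero.mp (by rw [← h]; norm_num)

include hF hω in
theorem omega_sq : ω * ω = ω + 1 := by
  linear_combination hω - (ω + 1) * two_eq_zero hF

include hF in
theorem elt_add (a b : Fin 4) : elt ω (add4 a b) = elt ω a + elt ω b := by
  have h2 := two_eq_zero hF
  fin_cases a <;> fin_cases b <;> simp [elt, add4] <;>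
    first | ring1 | linear_combination h2 | linear_combination -h2 | linear_combination ω * h2 |
      linear_combination -ω * h2 | linear_combination (ω + 1) * h2 | linear_combination -(ω + 1) * h2

include hF hω in
theorem elt_mul (a b : Fin 4) : elt ω (mul4 a b) = elt ω a * elt ω b := by
  have h2 := two_eq_zero hF
  have h := omega_sq hF hω
  fin_cases a <;> fin_cases b <;> simp [elt, mul4] <;>
    first | ring1 | linear_combination -h | linear_combination -h - (ω) * h2 | linear_combination -h - (ω + 1) * h2 |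
      linear_combination -h - h2 | linear_combination -h + (ω) * h2 | linear_combination -h + (ω + 1) * h2 |
      linear_combination -h + h2

include hF hω in
theorem elt_injective : Function.Injective (elt ω) := by
  have h0 : ω ≠ 0 := by rintro rfl; simp at hω
  have h1 : ω ≠ 1 := by
    rintro rfl
    exact one_ne_zero (α := F) (by linear_combination hω - two_eq_zero hF)
  have h3 : ω + 1 ≠ 0 := fun h => by
    have := omega_sq hF hω
    rw [h, mul_self_eq_zero] at this; exact h0 this
  intro a b h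
  fin_cases a <;> fin_cases b <;> simp [elt, h0, Ne.symm h0, h1, Ne.symm h1, h3, Ne.symm h3] at h ⊢

include hF hω in
theorem elt_bijective : Function.Bijective (elt ω) :=
  (Fintype.bijective_iff_injective_and_card _).mpr ⟨elt_injective hF hω, by rw [Fintype.card_fin, hF]⟩

include hF hω in
theorem lift_injective : Function.Injective (lift ω) := fun x y h =>
  funext fun i => elt_injective hF hω (congrFun h i)

omit [Fintype F] [DecidableEq F] in
theorem elt_zero : elt ω 0 = 0 := rfl

include hF hω in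
theorem lift_word (a : Fin 3 → Fin 4) :
    lift ω (word a) = ∑ k : Fin 3, elt ω (a k) • lift ω (gen k) := by
  funext i
  rw [Fin.sum_univ_three]
  simp [lift, word, elt_add hF, elt_mul hF hω]

include hF hω in
theorem mem_iff {v : Fin 6 → F} : v ∈ hexacode F ω ↔ ∃ n < 64, lift ω (word (trip n)) = v := by
  have hsq : ω ^ 2 = ω + 1 := (sq ω).trans (omega_sq hF hω)
  have hV : ({![ω, ω ^ 2, ω ^ 2, ω, ω ^ 2, ω], ![ω ^ 2, ω, ω, ω ^ 2, ω ^ 2, ω],
      ![ω ^ 2, ω, ω ^ 2, ω, ω, ω ^ 2]} : Set (Fin 6 → F)) = Set.range fun k => lift ω (gen k) := by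
    rw [show (fun k => lift ω (gen k)) = ![![ω, ω ^ 2, ω ^ 2, ω, ω ^ 2, ω], ![ω ^ 2, ω, ω, ω ^ 2, ω ^ 2, ω],
      ![ω ^ 2, ω, ω ^ 2, ω, ω, ω ^ 2]] by
        funext k i; fin_cases k <;> fin_cases i <;> simp [lift, gen, elt, hsq]]
    simp only [Matrix.range_cons, Matrix.range_empty, Set.union_empty, Set.singleton_union]
  rw [hexacode, hV, Submodule.mem_span_range_iff_exists_fun]
  constructor
  · rintro ⟨f, rfl⟩
    choose a ha using fun k => (elt_bijective hF hω).2 (f k)
    obtain ⟨n, hn, e⟩ := exists_trip (a 0) (a 1) (a 2)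
    refine ⟨n, hn, ?_⟩
    rw [e, lift_word hF hω]
    refine Finset.sum_congr rfl fun k _ => ?_
    fin_cases k <;> simp [ha]
  · rintro ⟨n, -, rfl⟩
    exact ⟨fun k => elt ω (trip n k), (lift_word hF hω _).symm⟩

include hF hω in
theorem code_eq : (hexacode F ω : Set (Fin 6 → F)) = (fun n => lift ω (word (trip n))) '' {n | n < 64} := by
  ext v; exact mem_iff hF hω

include hF hω in
theorem code_injOn : Set.InjOn (fun n => lift ω (word (trip n))) {n | n < 64} := fun a ha b hb h => by
  have := congrArg dec (lift_injective hF hω h)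
  rw [dec_word a ha, dec_word b hb] at this
  exact trip_injOn a ha b hb this

include hF hω in
theorem card_support (n : ℕ) : (univ.filter fun i => lift ω (word (trip n)) i ≠ 0).card = wt n := by
  refine congrArg Finset.card (Finset.filter_congr fun i _ => ?_)
  exact (elt_injective hF hω).ne_iff (y := 0)

include hF hω in
theorem ncard_weight (w : ℕ) : {x : Fin 6 → F | x ∈ hexacode F ω ∧ (univ.filter fun i => x i ≠ 0).card = w}.ncard
    = (List.range 64).countP fun n => wt n == w := by
  have hset : {x : Fin 6 → F | x ∈ hexacode F ω ∧ (univ.filter fun i => x i ≠ 0).card = w}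
      = (fun n => lift ω (word (trip n))) '' {n | n < 64 ∧ wt n = w} := by
    ext x
    constructor
    · rintro ⟨hx, hw⟩
      obtain ⟨n, hn, rfl⟩ := (mem_iff hF hω).mp hx
      rw [card_support hF hω] at hw
      exact ⟨n, ⟨hn, hw⟩, rfl⟩
    · rintro ⟨n, ⟨hn, hw⟩, rfl⟩
      exact ⟨(mem_iff hF hω).mpr ⟨n, hn, rfl⟩, (card_support hF hω n).trans hw⟩
  rw [hset, ((code_injOn hF hω).mono fun n hn => hn.1).ncard_image, List.countP_eq_length_filter,
    ← List.toFinset_card_of_nodup (List.nodup_range.filter _), ← Set.ncard_coe_finset]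
  congr 1
  ext n; simp

include hF hω in
theorem s1610 : Nat.card ↥(hexacode F ω) = 64 ∧
    (∀ x ∈ hexacode F ω, x ≠ 0 → (univ.filter fun i => x i ≠ 0).card = 4 ∨ (univ.filter fun i => x i ≠ 0).card = 6) ∧
    {x : Fin 6 → F | x ∈ hexacode F ω ∧ (univ.filter fun i => x i ≠ 0).card = 4}.ncard = 45 ∧
    {x : Fin 6 → F | x ∈ hexacode F ω ∧ (univ.filter fun i => x i ≠ 0).card = 6}.ncard = 18 := by
  obtain ⟨h0, h4, h6⟩ := weights_ok
  refine ⟨?_, fun x hx hne => ?_, by rw [ncard_weight hF hω, h4], by rw [ncard_weight hF hω, h6]⟩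
  · rw [← SetLike.coe_sort_coe, Nat.card_coe_set_eq, code_eq hF hω, (code_injOn hF hω).ncard_image,
      show {n | n < 64} = ((Finset.range 64 : Finset ℕ) : Set ℕ) by ext; simp, Set.ncard_coe_finset, Finset.card_range]
  · obtain ⟨n, hn, rfl⟩ := (mem_iff hF hω).mp hx
    rw [card_support hF hω]
    refine (h0 n hn).resolve_left fun e => hne ?_
    subst e
    funext i
    have : ∀ i, word (trip 0) i = 0 := by decide
    simp [lift, this, elt_zero]

end

section

variable (hF : Fintype.card F = 4) {ω : F} (hω : ω ^ 2 + ω + 1 = 0)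

/-- A monomial map as a linear map. -/
def monoLin (σ : Equiv.Perm (Fin 6)) (c : Fin 6 → Fˣ) : (Fin 6 → F) →ₗ[F] (Fin 6 → F) where
  toFun := monomialMap σ c
  map_add' x y := by funext i; simp [monomialMap, mul_add]
  map_smul' k x := by funext i; simp [monomialMap, mul_left_comm]

/-- The pairs preserving the code. -/
def Preserves (ω : F) (σ : Equiv.Perm (Fin 6)) (c : Fin 6 → Fˣ) : Prop :=
  ∀ x ∈ hexacode F ω, monomialMap σ c x ∈ hexacode F ω

include hF hω in
theorem exists_diag (c : Fin 6 → Fˣ) : ∃ n < 729, ∀ i, elt ω (diag n i) = (c i : F) := by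
  have hall : ∀ a : Fin 4, a ≠ 0 → a.val - 1 < 3 ∧ a.val - 1 + 1 = a.val := fun a ha => by
    have := Fin.val_ne_zero_iff.mpr ha; omega
  choose a ha using fun i => (elt_bijective hF hω).2 ((c i : F))
  have hne : ∀ i, a i ≠ 0 := fun i e => (c i).ne_zero (by rw [← ha i, e, elt_zero])
  refine ⟨∑ i : Fin 6, ((a i).val - 1) * 3 ^ (i : ℕ), ?_, fun i => ?_⟩
  · have hv := fun i => (hall _ (hne i)).1
    rw [Fin.sum_univ_six]
    have := hv 0; have := hv 1; have := hv 2; have := hv 3; have := hv 4; have := hv 5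
    norm_num
    omega
  · rw [← ha i]
    congr 1
    apply Fin.ext
    show _ % 3 + 1 = _
    have hv := fun i => hall _ (hne i)
    rw [Fin.sum_univ_six]
    have := hv 0; have := hv 1; have := hv 2; have := hv 3; have := hv 4; have := hv 5
    fin_cases i <;> simp only [Fin.reduceFinMk] <;> norm_num <;> omega

include hF hω in
theorem diag_units (n : ℕ) : ∃ c : Fin 6 → Fˣ, ∀ i, (c i : F) = elt ω (diag n i) := by
  refine ⟨fun i => Units.mk0 (elt ω (diag n i)) fun e => ?_, fun i => rfl⟩
  rw [← elt_zero (ω := ω)] at e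
  have := congrArg Fin.val (elt_injective hF hω e)
  simp [diag] at this

include hF hω in
theorem preserves_iff {σ : Equiv.Perm (Fin 6)} {c : Fin 6 → Fˣ} {d : Fin 6 → Fin 4} (hd : ∀ i, elt ω (d i) = (c i : F)) :
    Preserves ω σ c ↔ good σ d := by
  have hact : ∀ x, monomialMap σ c (lift ω x) = lift ω (act σ d x) := fun x => by
    funext i; simp [monomialMap, lift, act, elt_mul hF hω, hd]
  constructor
  · intro h k
    have hk : lift ω (gen k) ∈ hexacode F ω := by
      obtain ⟨n, hn, e⟩ := exists_trip ((Pi.single k 1 : Fin 3 → Fin 4) 0) ((Pi.single k 1 : Fin 3 → Fin 4) 1)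
        ((Pi.single k 1 : Fin 3 → Fin 4) 2)
      refine (mem_iff hF hω).mpr ⟨n, hn, ?_⟩
      rw [e, show (![(Pi.single k 1 : Fin 3 → Fin 4) 0, (Pi.single k 1 : Fin 3 → Fin 4) 1, (Pi.single k 1 : Fin 3 → Fin 4) 2])
        = Pi.single k 1 by funext j; fin_cases j <;> rfl, trip_unit]
    obtain ⟨m, hm, e⟩ := (mem_iff hF hω).mp (h _ hk)
    rw [hact] at e
    rw [← lift_injective hF hω e, dec_word m hm]
  · intro h x hx
    obtain ⟨n, -, rfl⟩ := (mem_iff hF hω).mp hx
    rw [lift_word hF hω]
    show monoLin σ c _ ∈ _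
    rw [map_sum]
    refine Submodule.sum_mem _ fun k _ => ?_
    rw [map_smul]
    refine Submodule.smul_mem _ _ ?_
    show monomialMap σ c _ ∈ _
    rw [hact, ← h k]
    obtain ⟨m, hm, e⟩ := exists_trip (dec (act σ d (gen k)) 0) (dec (act σ d (gen k)) 1) (dec (act σ d (gen k)) 2)
    refine (mem_iff hF hω).mpr ⟨m, hm, ?_⟩
    rw [e]; congr 2; funext j; fin_cases j <;> rfl

include hF hω in
theorem kernel_const (c : Fin 6 → Fˣ) (h : Preserves ω 1 c) (i j : Fin 6) : c i = c j := by
  obtain ⟨n, hn, hd⟩ := exists_diag hF hω c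
  have hg := kernel_scalar n hn ((preserves_iff hF hω hd).mp h)
  exact Units.ext (by rw [← hd i, ← hd j, hg i, hg j])

omit [Fintype F] [DecidableEq F] in
theorem mono_comp (σ τ : Equiv.Perm (Fin 6)) (c d : Fin 6 → Fˣ) (x : Fin 6 → F) :
    monomialMap σ c (monomialMap τ d x) = monomialMap (σ * τ) (fun i => c i * d (σ.symm i)) x := by
  funext i
  simp [monomialMap, mul_assoc, Equiv.Perm.mul_def]

include hF hω in
/-- The permutations occurring form a subgroup. -/
theorem exists_group : ∃ H : Subgroup (Equiv.Perm (Fin 6)), ∀ σ, σ ∈ H ↔ ∃ c, Preserves ω σ c := by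
  classical
  let H : Submonoid (Equiv.Perm (Fin 6)) :=
    { carrier := {σ | ∃ c, Preserves ω σ c}
      one_mem' := ⟨fun _ => 1, fun x hx => by
        rwa [show monomialMap (1 : Equiv.Perm (Fin 6)) (fun _ => (1 : Fˣ)) x = x from funext fun i => by
          simp [monomialMap, Equiv.Perm.one_def]]⟩
      mul_mem' := fun {σ τ} => by
        rintro ⟨c, hc⟩ ⟨d, hd⟩
        exact ⟨_, fun x hx => mono_comp σ τ c d x ▸ hc _ (hd x hx)⟩ }
  refine ⟨{ H with inv_mem' := fun {σ} hσ => ?_ }, fun σ => Iff.rfl⟩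
  rw [show σ⁻¹ = σ ^ (orderOf σ - 1) from inv_eq_of_mul_eq_one_right (by
    rw [← pow_succ', Nat.sub_add_cancel (orderOf_pos σ), pow_orderOf_eq_one])]
  exact H.pow_mem hσ _

include hF hω in
theorem perm_set : {σ : Equiv.Perm (Fin 6) | ∃ c : Fin 6 → Fˣ, Preserves ω σ c}
    = (alternatingGroup (Fin 6) : Set (Equiv.Perm (Fin 6))) := by
  obtain ⟨H, hH⟩ := exists_group hF hω
  have hswap : Equiv.swap (0 : Fin 6) 1 ∉ H := fun h => by
    obtain ⟨c, hc⟩ := (hH _).mp h
    obtain ⟨n, hn, hd⟩ := exists_diag hF hω c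
    exact swap_bad n hn ((preserves_iff hF hω hd).mp hc)
  have hgen : ∀ a b : Fin 6, a ≠ b → Equiv.swap 0 1 * Equiv.swap a b ∈ H := fun a b hab => by
    obtain ⟨c, hc⟩ := diag_units hF hω (certs.getD (6 * a.val + b.val) 0)
    exact (hH _).mpr ⟨c, (preserves_iff hF hω fun i => (hc i).symm).mpr (certs_ok a b hab)⟩
  have key : ∀ σ : Equiv.Perm (Fin 6), (Equiv.Perm.sign σ = 1 → σ ∈ H) ∧
      (Equiv.Perm.sign σ = -1 → Equiv.swap 0 1 * σ ∈ H) := by
    intro σ
    induction σ using Equiv.Perm.swap_induction_on with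
    | one => exact ⟨fun _ => one_mem H, fun h => absurd h (by simp)⟩
    | swap_mul f a b hab ih =>
      rw [Equiv.Perm.sign_mul, Equiv.Perm.sign_swap hab]
      refine ⟨fun h => ?_, fun h => ?_⟩
      · have hf : Equiv.Perm.sign f = -1 := by simpa [neg_eq_iff_eq_neg] using h
        have h2 := mul_mem (inv_mem (hgen a b hab)) (ih.2 hf)
        simpa [mul_assoc, Equiv.swap_inv] using h2
      · have hf : Equiv.Perm.sign f = 1 := by simpa using h
        rw [← mul_assoc]; exact mul_mem (hgen a b hab) (ih.1 hf)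
  ext σ
  rw [Set.mem_setOf_eq, ← hH, SetLike.mem_coe, Equiv.Perm.mem_alternatingGroup]
  refine ⟨fun h => (Int.units_eq_one_or _).resolve_right fun hs => hswap ?_, (key σ).1⟩
  simpa using mul_mem ((key σ).2 hs) (inv_mem h)

include hF hω in
theorem s1611 : Nat.card {f : Equiv.Perm (Fin 6) × (Fin 6 → Fˣ) // Preserves ω f.1 f.2} = 1080 ∧
    (∀ c : Fin 6 → Fˣ, Preserves ω 1 c → ∀ i j, c i = c j) ∧
    {σ : Equiv.Perm (Fin 6) | ∃ c : Fin 6 → Fˣ, Preserves ω σ c}
      = (alternatingGroup (Fin 6) : Set (Equiv.Perm (Fin 6))) := by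
  refine ⟨?_, kernel_const hF hω, perm_set hF hω⟩
  classical
  obtain ⟨H, hH⟩ := exists_group hF hω
  have hset := perm_set hF hω
  choose c₀ hc₀ using fun σ : alternatingGroup (Fin 6) => (Set.ext_iff.mp hset σ.1).mpr σ.2
  have hscal : ∀ (σ : alternatingGroup (Fin 6)) (k : Fˣ), Preserves ω σ.1 fun i => k * c₀ σ i := fun σ k x hx => by
    rw [show monomialMap σ.1 (fun i => k * c₀ σ i) x = (k : F) • monomialMap σ.1 (c₀ σ) x from funext fun i => by
      simp [monomialMap, mul_assoc]]
    exact Submodule.smul_mem _ _ (hc₀ σ x hx)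
  let f : alternatingGroup (Fin 6) × Fˣ → {f : Equiv.Perm (Fin 6) × (Fin 6 → Fˣ) // Preserves ω f.1 f.2} :=
    fun p => ⟨(p.1.1, fun i => p.2 * c₀ p.1 i), hscal p.1 p.2⟩
  have hf : Function.Bijective f := by
    constructor
    · rintro ⟨σ, k⟩ ⟨τ, l⟩ h
      have h' := congrArg Subtype.val h
      simp only [f, Prod.mk.injEq] at h'
      obtain rfl : σ = τ := Subtype.ext h'.1
      exact Prod.ext rfl (mul_right_cancel (congrFun h'.2 0))
    · rintro ⟨⟨σ, c⟩, hc⟩
      set τ : alternatingGroup (Fin 6) := ⟨σ, (Set.ext_iff.mp hset σ).mp ⟨c, hc⟩⟩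
      -- the quotient of the two diagonals preserves the code
      have hinj : Function.Injective (monoLin σ (c₀ τ)) := fun x y h => funext fun j => by
        have := congrFun h (σ j)
        simp [monoLin, monomialMap] at this
        exact this
      have hq : Preserves ω 1 fun i => c i / c₀ τ i := fun x hx => by
        obtain ⟨y, rfl⟩ := LinearMap.surjective_of_injective hinj x
        haveI : Finite ↥(hexacode F ω) := inferInstance
        have hy : y ∈ hexacode F ω := by
          obtain ⟨⟨z, hz⟩, e⟩ := (Finite.injective_iff_surjective.mp (show Function.Injective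
            (fun v : hexacode F ω => (⟨monomialMap σ (c₀ τ) v.1, hc₀ τ v.1 v.2⟩ : hexacode F ω)) from
              fun u v h => Subtype.ext (hinj (congrArg Subtype.val h)))) ⟨_, hx⟩
          rw [← hinj (congrArg Subtype.val e)]; exact hz
        show monomialMap 1 _ (monomialMap σ (c₀ τ) y) ∈ _
        rw [mono_comp, one_mul]
        simpa [Equiv.Perm.one_def] using hc y hy
      refine ⟨(τ, c 0 / c₀ τ 0), Subtype.ext (Prod.ext rfl (funext fun i => ?_))⟩
      show c 0 / c₀ τ 0 * c₀ τ i = c i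
      rw [← kernel_const hF hω _ hq i 0, div_mul_cancel]
  rw [← Nat.card_congr (Equiv.ofBijective f hf), Nat.card_prod, Nat.card_units]
  have h2 := two_mul_nat_card_alternatingGroup (α := Fin 6)
  rw [Nat.card_perm, Nat.card_eq_fintype_card (α := Fin 6), Fintype.card_fin] at h2
  rw [Nat.card_eq_fintype_card (α := F), hF]
  norm_num [Nat.factorial] at h2 ⊢
  omega

end

end Cfsg.Lib.Hexacode
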